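import Cfsg.Agent.Powell16.Final
import Cfsg.Agent.Powell16.Suzuki
import Cfsg.Agent.ThreePrime.Main
import Cfsg.Agent.Zsigmondy.Main
import Cfsg.Agent.Constrained.PSolvable
import Cfsg.Agent.QdSection.Sections
import Cfsg.Agent.QdSection.KInfFusion
import Cfsg.Agent.Classical.Linear.Simple
import Cfsg.Agent.Classical.Linear.Card
import Cfsg.Agent.Chars.Apps.Burnside
import Cfsg.Agent.Eq.Def_LocalEven

/-!
**Powell's theorem**: a simple group whose proper subgroups are `p`-soluble, `p` an odd prime dividing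
the order, is generated by three elements.
-/

set_option autoImplicit false
set_option linter.style.haveILetI false

open Cfsg

namespace CfsgLib.Powell

universe u

theorem not_dvd_of_simple_pSolvable {p : ℕ} [hp : Fact p.Prime] {Q : Type u} [Group Q] [Finite Q]
    (hQ : IsSimpleGroup Q) (hnc : ∃ a b : Q, a * b ≠ b * a) (h : IsPSolvable p Q) :
    ¬ p ∣ Nat.card Q := by
  intro hd
  haveI := hQ
  obtain ⟨a, b, hab⟩ := hnc
  haveI : Nontrivial Q := ⟨⟨a * b, b * a, hab⟩⟩
  rcases CfsgLib.Constrained.IsPSolvable.core_ne_bot h with h1 | h1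
  · have htop := (IsSimpleGroup.eq_bot_or_eq_top_of_normal _ (inferInstance : (pCore p Q).Normal)).resolve_left h1
    have hQp : IsPGroup p Q := by
      have h3 : IsPGroup p ↥(pCore p Q) := Constrained.isPGroup_pCore
      rw [htop] at h3
      exact h3.of_equiv Subgroup.topEquiv
    haveI := hQp.center_nontrivial
    have hc := (IsSimpleGroup.eq_bot_or_eq_top_of_normal _
      (inferInstance : (Subgroup.center Q).Normal)).resolve_left
      ((Subgroup.nontrivial_iff_ne_bot _).mp inferInstance)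
    exact hab (Subgroup.mem_center_iff.mp (hc ▸ Subgroup.mem_top b) a)
  · have htop := (IsSimpleGroup.eq_bot_or_eq_top_of_normal _
      (inferInstance : (pPrimeCore p Q).Normal)).resolve_left h1
    have h3 : ¬ p ∣ Nat.card ↥(pPrimeCore p Q) := Constrained.pPrimeCore_not_dvd
    rw [htop, Subgroup.card_top] at h3
    exact h3 hd

theorem not_involves_qd {G : Type u} [Group G] [Finite G] {p r : ℕ} [Fact p.Prime] [hr : Fact r.Prime]
    (hp : p ≠ 2) (hr5 : 5 ≤ r) (hpr : p ∣ r * (r ^ 2 - 1))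
    (hprop : ∀ H : Subgroup G, H ≠ ⊤ → IsPSolvable p ↥H) : ¬ Involves (Cfsg.qd r) G := by
  classical
  rintro ⟨K, R, hR, ⟨e⟩⟩
  set f := e.toMonoidHom.comp (QuotientGroup.mk' (R.subgroupOf K)) with hf
  have hfs : Function.Surjective f := e.surjective.comp (QuotientGroup.mk'_surjective _)
  set L := (CfsgLib.QdSection.qdLin (p := r)).range with hL
  have hproper : (L.comap f).map K.subtype ≠ ⊤ := by
    intro htop
    have h1 : CfsgLib.QdSection.qdVec (p := r) (Multiplicative.ofAdd ![1, 0]) ∈ L := by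
      obtain ⟨y, hy⟩ := hfs (CfsgLib.QdSection.qdVec (p := r) (Multiplicative.ofAdd ![1, 0]))
      obtain ⟨z, hz, he⟩ : (y : G) ∈ (L.comap f).map K.subtype := htop ▸ Subgroup.mem_top _
      rw [← hy, ← (Subtype.ext he : z = y)]
      exact hz
    obtain ⟨g, hg⟩ := h1
    simp only [CfsgLib.QdSection.qdLin, CfsgLib.QdSection.qdVec, MonoidHom.coe_mk,
      OneHom.coe_mk] at hg
    obtain ⟨-, -, -, -, hu, -⟩ := CfsgLib.QdSection.qM_inj hg
    simp at hu
  have hsl : IsPSolvable p (Matrix.SpecialLinearGroup (Fin 2) (ZMod r)) := by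
    have h1 := hprop _ hproper
    have h2 : IsPSolvable p ↥(L.comap f) := CfsgLib.Constrained.IsPSolvable.of_injective h1
      ((L.comap f).equivMapOfInjective K.subtype K.subtype_injective).toMonoidHom (MulEquiv.injective _)
    have h3 : IsPSolvable p ↥L := CfsgLib.Constrained.IsPSolvable.of_surjective h2 (f.subgroupComap L)
      (fun y => by
        obtain ⟨y, hy⟩ := y
        obtain ⟨x, rfl⟩ := hfs y
        exact ⟨⟨x, hy⟩, rfl⟩)
    refine CfsgLib.Constrained.IsPSolvable.of_injective h3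
      (CfsgLib.QdSection.qdLin (p := r)).rangeRestrict fun a b hab => ?_
    have h4 : CfsgLib.QdSection.qdLin a = CfsgLib.QdSection.qdLin b := congrArg Subtype.val hab
    simp only [CfsgLib.QdSection.qdLin, MonoidHom.coe_mk, OneHom.coe_mk] at h4
    obtain ⟨e1, e2, e3, e4, -, -⟩ := CfsgLib.QdSection.qM_inj h4
    ext i j
    fin_cases i <;> fin_cases j <;> assumption
  have h4' : 4 ≤ Nat.card (ZMod r) := by rw [Nat.card_zmod]; omega
  haveI : IsSimpleGroup (Matrix.ProjectiveSpecialLinearGroup (Fin 2) (ZMod r)) :=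
    CfsgLib.Classical.Linear.isSimpleGroup_psl_fin le_rfl fun _ => h4'
  have hpsl : IsPSolvable p (Matrix.ProjectiveSpecialLinearGroup (Fin 2) (ZMod r)) :=
    CfsgLib.Constrained.IsPSolvable.quotient hsl _
  have hnc : ∃ a b : Matrix.ProjectiveSpecialLinearGroup (Fin 2) (ZMod r), a * b ≠ b * a := by
    by_contra hc
    push Not at hc
    exact CfsgLib.Classical.Linear.not_isMulCommutative_psl
      (CfsgLib.Classical.Linear.commutator_sl_fin_eq_top 2 fun _ =>
        CfsgLib.Classical.Linear.exists_sq_ne_one_of_four_le h4') ⟨⟨hc⟩⟩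
  refine not_dvd_of_simple_pSolvable inferInstance hnc hpsl ?_
  have hcard := CfsgLib.Classical.Linear.card_psl_two (F := ZMod r)
  rw [ZMod.card] at hcard
  refine (Nat.Coprime.dvd_of_dvd_mul_left ?_ (hcard ▸ hpr))
  refine (Nat.Prime.coprime_iff_not_dvd (Fact.out : p.Prime)).mpr fun hd => hp ?_
  exact (Nat.prime_dvd_prime_iff_eq Fact.out Nat.prime_two).mp (hd.trans (Nat.gcd_dvd_left _ _))

theorem three_dvd_sq_sub_one {r : ℕ} (hr : r.Prime) (h : r ≠ 3) : 3 ∣ r ^ 2 - 1 := by
  have h1 : ¬ 3 ∣ r := fun hd => h ((Nat.prime_dvd_prime_iff_eq Nat.prime_three hr).mp hd).symm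
  have h2 : r % 3 = 1 ∨ r % 3 = 2 := by omega
  have h3 : r ^ 2 % 3 = 1 := by
    rcases h2 with h2 | h2 <;> simp [Nat.pow_mod, h2]
  omega

/-- A Suzuki section `Sz(2^(2m+1))` of a proper subgroup. -/
def SzSection (G : Type u) [Group G] (m : ℕ) : Prop :=
  ∃ (H : Subgroup G) (N : Subgroup ↥H) (_ : N.Normal) (F : Type) (_ : Field F) (_ : Fintype F),
    H ≠ ⊤ ∧ 1 ≤ m ∧ Fintype.card F = 2 ^ (2 * m + 1) ∧
      Nonempty ((↥H ⧸ N) ≃* Cfsg.Lie.Sz F (2 ^ (m + 1)))

theorem SzSection.card_dvd {G : Type u} [Group G] [Finite G] {m : ℕ} (h : SzSection G m) :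
    (2 ^ (2 * m + 1)) ^ 2 * ((2 ^ (2 * m + 1)) ^ 2 + 1) * (2 ^ (2 * m + 1) - 1) ∣ Nat.card G := by
  obtain ⟨H, N, hN, F, i1, i2, -, hm, hF, ⟨e⟩⟩ := h
  rw [← isoSuzuki_card hm hF e, ← Subgroup.index_eq_card]
  exact N.index_dvd_card.trans H.card_subgroup_dvd_card

theorem exists_szSection {G : Type u} [Group G] [Finite G] [Fact (Nat.Prime 3)]
    (hprop : ∀ H : Subgroup G, H ≠ ⊤ → IsPSolvable 3 ↥H) {H : Subgroup G} (hH : H ≠ ⊤) {Q : Type u}
    [Group Q] [Finite Q] (hQ : IsSimpleGroup Q) (hnc : ∃ a b : Q, a * b ≠ b * a) (f : ↥H →* Q)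
    (hf : Function.Surjective f) :
    ∃ (m : ℕ) (F : Type) (_ : Field F) (_ : Fintype F), SzSection G m ∧ 1 ≤ m ∧
      Fintype.card F = 2 ^ (2 * m + 1) ∧ Nonempty (Q ≃* Cfsg.Lie.Sz F (2 ^ (m + 1))) := by
  have h3 := not_dvd_of_simple_pSolvable hQ hnc
    (CfsgLib.Constrained.IsPSolvable.of_surjective (hprop H hH) f hf)
  haveI := hQ
  obtain ⟨a, b, hab⟩ := hnc
  obtain ⟨F, i1, i2, m, hm, hF, ⟨e⟩⟩ := CfsgLib.ThreePrime.isoSuzuki
    (G := Q) (fun hc => hab (hc.is_comm.comm a b)) h3
  exact ⟨m, F, i1, i2, ⟨H, f.ker, inferInstance, F, i1, i2, hH, hm, hF,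
    ⟨(QuotientGroup.quotientKerEquivOfSurjective f hf).trans e⟩⟩, hm, hF, ⟨e⟩⟩

theorem exists_five_le_prime {G : Type u} [Group G] [Finite G] [IsSimpleGroup G]
    (hna : ∃ a b : G, a * b ≠ b * a) : ∃ r : ℕ, r.Prime ∧ 5 ≤ r ∧ r ∣ Nat.card G := by
  by_contra hc
  push Not at hc
  have hsol : Group.IsSolvable G := CfsgLib.Chars.Apps.isSolvable_of_primeFactors_subset G
    Nat.prime_two Nat.prime_three fun r hr hd => by
      have h2 := hr.two_le
      have h5 : r < 5 := by
        by_contra h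
        exact hc r hr (by omega) hd
      interval_cases r
      · exact Or.inl rfl
      · exact Or.inr rfl
      · exact absurd hr (by norm_num)
  obtain ⟨a, b, hab⟩ := hna
  exact hab (IsSimpleGroup.comm_iff_isSolvable.mpr hsol a b)

theorem orderOf_two_of_ppd {r n : ℕ} (hn : 0 < n) (h : CfsgLib.Zsigmondy.IsPPD r 2 n) :
    orderOf ((2 : ℕ) : ZMod r) = n := by
  have h1 := (CfsgLib.Zsigmondy.dvd_pow_sub_one_iff (by norm_num) n).mp h.2.1
  refine le_antisymm (Nat.le_of_dvd hn h1) ?_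
  by_contra hlt
  push Not at hlt
  exact h.2.2 _ (Nat.pos_of_dvd_of_pos h1 hn) hlt
    ((CfsgLib.Zsigmondy.dvd_pow_sub_one_iff (by norm_num) _).mpr dvd_rfl)

/-- **Powell's theorem.** -/
theorem three_generated {G : Type u} [Group G] [Finite G] [IsSimpleGroup G]
    (hna : ¬ IsMulCommutative G) {p : ℕ} [hpf : Fact p.Prime] (hp : p ≠ 2) (hdvd : p ∣ Nat.card G)
    (hprop : ∀ H : Subgroup G, H ≠ ⊤ → IsPSolvable p ↥H) :
    ∃ x y z : G, Subgroup.closure ({x, y, z} : Set G) = ⊤ := by
  classical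
  by_contra hgen
  push Not at hgen
  have hnc : ∃ a b : G, a * b ≠ b * a := by
    by_contra hc
    push Not at hc
    exact hna ⟨⟨hc⟩⟩
  by_cases h3 : p = 3
  · subst h3
    have hqd : ∀ r : ℕ, r.Prime → 5 ≤ r → ¬ Involves (Cfsg.qd r) G := fun r hr h5 =>
      haveI := Fact.mk hr
      not_involves_qd hp h5 ((three_dvd_sq_sub_one hr (by omega)).trans (dvd_mul_left _ _)) hprop
    set S := (Finset.range (Nat.card G + 1)).filter (SzSection G) with hS
    have hmem : ∀ m, SzSection G m → m ∈ S := by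
      intro m hm
      refine Finset.mem_filter.mpr ⟨Finset.mem_range.mpr ?_, hm⟩
      have h1 := Nat.le_of_dvd Nat.card_pos
        ((dvd_pow_self _ two_ne_zero).trans ((dvd_mul_right _ _).trans
          ((dvd_mul_right _ _).trans hm.card_dvd)))
      have h2 : 2 * m + 1 < 2 ^ (2 * m + 1) := Nat.lt_two_pow_self
      omega
    rcases S.eq_empty_or_nonempty with hSe | hSne
    · obtain ⟨r, hr, hr5, hrd⟩ := exists_five_le_prime hnc
      haveI := Fact.mk hr
      refine Setup.contradiction (G := G) (r := r) ⟨by omega, hrd, inferInstance, hnc, hgen,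
        hqd r hr hr5, fun H hH Q _ _ hQ hQnc _ f hf => ?_⟩
      obtain ⟨m, F, i1, i2, hsec, -⟩ := exists_szSection hprop hH hQ hQnc f hf
      exact absurd (hmem m hsec) (by rw [hSe]; exact Finset.notMem_empty m)
    · set m₀ := S.max' hSne
      have hm₀ : SzSection G m₀ := (Finset.mem_filter.mp (S.max'_mem hSne)).2
      obtain ⟨-, -, -, -, -, -, -, hm1, -, -⟩ := id hm₀
      obtain ⟨r, hr⟩ := CfsgLib.Zsigmondy.exists_isPPD (a := 2) (n := 4 * (2 * m₀ + 1)) one_lt_two
        (by omega) (fun h => by omega) (fun h => by omega)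
      haveI := Fact.mk hr.1
      have hord := orderOf_two_of_ppd (by omega) hr
      have hdvd2 : ∀ k : ℕ, r ∣ 2 ^ k - 1 ↔ 4 * (2 * m₀ + 1) ∣ k := fun k => by
        rw [CfsgLib.Zsigmondy.dvd_pow_sub_one_iff (by norm_num) k, hord]
      have hr5 : 5 ≤ r := by
        have h1 : ((2 : ℕ) : ZMod r) ≠ 0 := by
          intro h0
          rw [h0] at hord
          have : orderOf (0 : ZMod r) = 0 := by
            rw [orderOf_eq_zero_iff']
            intro n hn
            rw [zero_pow hn.ne']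
            exact zero_ne_one
          omega
        have h2 := ZMod.orderOf_dvd_card_sub_one h1
        rw [hord] at h2
        have := Nat.le_of_dvd (Nat.sub_pos_of_lt hr.1.one_lt) h2
        omega
      have hrG : r ∣ Nat.card G := by
        set q := 2 ^ (2 * m₀ + 1) with hq
        have h1 : r ∣ q ^ 4 - 1 := by
          rw [hq, ← pow_mul, mul_comm]; exact hr.2.1
        have hfac : q ^ 4 - 1 = (q ^ 2 + 1) * (q ^ 2 - 1) := by
          rw [show q ^ 4 = (q ^ 2) ^ 2 by ring, ← one_pow 2, Nat.sq_sub_sq, one_pow]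
        rw [hfac] at h1
        rcases hr.1.dvd_mul.mp h1 with h2 | h2
        · exact h2.trans ((dvd_mul_of_dvd_left (dvd_mul_left _ _) _).trans hm₀.card_dvd)
        · exfalso
          rw [hq, ← pow_mul] at h2
          have := Nat.le_of_dvd (by omega) ((hdvd2 _).mp h2)
          omega
      refine Setup.contradiction (G := G) (r := r) ⟨by omega, hrG, inferInstance, hnc, hgen,
        hqd r hr.1 hr5, fun H hH Q _ _ hQ hQnc hrQ f hf => ?_⟩
      obtain ⟨m, F, i1, i2, hsec, hm, hF, ⟨e⟩⟩ := exists_szSection hprop hH hQ hQnc f hf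
      have hle : m ≤ m₀ := Finset.le_max' S m (hmem m hsec)
      have hge : m₀ ≤ m := by
        rw [isoSuzuki_card hm hF e] at hrQ
        set q := 2 ^ (2 * m + 1) with hq
        have h4 : r ∣ q ^ 4 - 1 := by
          rcases hr.1.dvd_mul.mp hrQ with h3 | h3
          · rcases hr.1.dvd_mul.mp h3 with h5 | h5
            · exfalso
              rw [hq, ← pow_mul] at h5
              have := (Nat.prime_dvd_prime_iff_eq hr.1 Nat.prime_two).mp (hr.1.dvd_of_dvd_pow h5)
              omega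
            · exact h5.trans (CfsgLib.Suzuki.q_sub_one_dvd q).1
          · exact h3.trans (CfsgLib.Suzuki.q_sub_one_dvd q).2
        rw [hq, ← pow_mul] at h4
        have := Nat.le_of_dvd (by omega) ((hdvd2 _).mp h4)
        omega
      obtain rfl : m = m₀ := le_antisymm hle hge
      exact isoSuzuki_simpleFacts hm hF e hord
  · have hp5 : 5 ≤ p := by
      have := hpf.out.two_le
      have : p ≠ 4 := fun h => by subst h; exact absurd hpf.out (by norm_num)
      omega
    refine Setup.contradiction (G := G) (r := p) ⟨hp, hdvd, inferInstance, hnc, hgen,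
      not_involves_qd hp hp5 (dvd_mul_right _ _) hprop, fun H hH Q _ _ hQ hQnc hpQ f hf => ?_⟩
    exact absurd hpQ (not_dvd_of_simple_pSolvable hQ hQnc
      (CfsgLib.Constrained.IsPSolvable.of_surjective (hprop H hH) f hf))

end CfsgLib.Powell
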